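import Cfsg.Agent.FiLarge.Cent.Final

/-!
The centraliser of a small involution induces every automorphism of its even part.
-/

set_option autoImplicit false
set_option linter.style.haveILetI false
set_option linter.unusedSectionVars false
set_option maxRecDepth 100000

namespace CfsgLib.FiLarge.Aut

open CfsgLib Subgroup CfsgLib.FiLarge.Thom CfsgLib.FiLarge.U62 CfsgLib.FiLarge.Cent
open scoped commutatorElement

/-- A quasisimple normal part of index two over Fi22 gets every automorphism from conjugation. -/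
theorem aut_surj {G : Type*} [Group G] [Finite G] {C K : Subgroup G} {t : G} (hle : K ≤ C)
    (hidx : (K.subgroupOf C).index = 2) (hcl : ∀ g ∈ C, (∀ k ∈ K, g * k = k * g) → g ∈ K)
    (hcen : (Subgroup.center ↥K).map K.subtype = zpowers t) (hqs : Cfsg.IsQuasisimple ↥K)
    (e : ↥K ⧸ Subgroup.center ↥K ≃* Cfsg.Spor.Fi22) (φ : MulAut ↥K) :
    ∃ c ∈ C, ∀ k : ↥K, c * k * c⁻¹ = (φ k : G) := by
  classical
  haveI : (K.subgroupOf C).Normal := normal_of_index_eq_two hidx
  have hconj : ∀ c : ↥C, ∀ k ∈ K, (c : G) * k * (c : G)⁻¹ ∈ K := fun c k hk => by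
    have := (inferInstance : (K.subgroupOf C).Normal).conj_mem ⟨k, hle hk⟩ hk c
    rwa [mem_subgroupOf] at this
  let act : ↥C →* MulAut ↥K := MonoidHom.mk'
    (fun c => MulEquiv.mk' ⟨fun k => ⟨(c : G) * k * (c : G)⁻¹, hconj c k k.2⟩,
        fun k => ⟨((c⁻¹ : ↥C) : G) * k * ((c⁻¹ : ↥C) : G)⁻¹, hconj c⁻¹ k k.2⟩,
        fun k => Subtype.ext (by simp [mul_assoc]), fun k => Subtype.ext (by simp [mul_assoc])⟩
      fun k k' => Subtype.ext (by simp [mul_assoc]))
    fun c c' => MulEquiv.ext fun k => Subtype.ext (by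
      show ((c * c' : ↥C) : G) * k * ((c * c' : ↥C) : G)⁻¹ = c * ((c' : G) * k * (c' : G)⁻¹) * (c : G)⁻¹
      simp [mul_assoc])
  have hker : act.ker = ((Subgroup.center ↥K).map K.subtype).subgroupOf C := by
    ext c
    rw [MonoidHom.mem_ker, mem_subgroupOf]
    constructor
    · intro hc
      have h : ∀ k ∈ K, (c : G) * k = k * c := fun k hk =>
        mul_inv_eq_iff_eq_mul.1 (congrArg Subtype.val (DFunLike.congr_fun hc (⟨k, hk⟩ : ↥K)) : (c : G) * k * (c : G)⁻¹ = k)
      exact ⟨⟨c, hcl c c.2 h⟩, mem_center_iff.2 fun k => Subtype.ext (h k k.2).symm, rfl⟩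
    · rintro ⟨v, hv, e⟩
      refine MulEquiv.ext fun k => Subtype.ext (mul_inv_eq_iff_eq_mul.2 ?_)
      rw [show (c : G) = v from e.symm]
      exact (congrArg Subtype.val (mem_center_iff.1 hv k)).symm
  -- an automorphism is determined modulo the centre
  have hchar : ∀ ψ : MulAut ↥K, (Subgroup.center ↥K).map ψ.toMonoidHom = Subgroup.center ↥K := fun ψ =>
    characteristic_iff_map_eq.1 inferInstance ψ
  let bar : MulAut ↥K → MulAut Cfsg.Spor.Fi22 := fun ψ => MulAut.congr e (QuotientGroup.congr _ _ ψ (hchar ψ))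
  have hbar : Function.Injective bar := by
    intro ψ ψ' h
    have h' := (MulAut.congr e).injective h
    have hc : ∀ k : ↥K, (ψ k)⁻¹ * ψ' k ∈ Subgroup.center ↥K := fun k => by
      have := DFunLike.congr_fun h' (QuotientGroup.mk k)
      exact QuotientGroup.eq.1 this
    let χ : ↥K →* ↥K := MonoidHom.mk' (fun k => (ψ k)⁻¹ * ψ' k) fun k k' => by
      have hcom := mem_center_iff.1 (hc k) (ψ k')⁻¹
      simp only [map_mul, mul_inv_rev]
      calc (ψ k')⁻¹ * (ψ k)⁻¹ * (ψ' k * ψ' k') = (ψ k')⁻¹ * ((ψ k)⁻¹ * ψ' k) * ψ' k' := by group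
        _ = (ψ k)⁻¹ * ψ' k * (ψ k')⁻¹ * ψ' k' := by rw [hcom]
        _ = _ := by group
    have hle' : commutator ↥K ≤ χ.ker := by
      rw [_root_.commutator_def, Subgroup.commutator_le]
      intro u _ v _
      rw [MonoidHom.mem_ker, map_commutatorElement, commutatorElement_eq_one_iff_commute]
      exact (mem_center_iff.1 (hc v) (χ u))
    refine MulEquiv.ext fun k => ?_
    have h1 : χ k = 1 := hle' (by rw [hqs.1.commutator_eq_top]; exact mem_top k)
    exact inv_mul_eq_one.1 h1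
  have h3 := Subgroup.card_eq_card_quotient_mul_card_subgroup (Subgroup.center ↥K)
  rw [Nat.card_congr e.toEquiv] at h3
  haveI : Finite Cfsg.Spor.Fi22 := Finite.of_equiv _ e.toEquiv
  haveI : Finite (MulAut Cfsg.Spor.Fi22) := Finite.of_injective (fun ψ => (ψ : Cfsg.Spor.Fi22 → Cfsg.Spor.Fi22))
    DFunLike.coe_injective
  have hle2 : Nat.card (MulAut ↥K) ≤ 2 * Nat.card Cfsg.Spor.Fi22 :=
    (Nat.card_le_card_of_injective bar hbar).trans_eq CfsgLib.ThreeT.Prod.card_mulAut_fi22
  haveI : Finite (MulAut ↥K) := Finite.of_injective bar hbar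
  have hrange : act.range = ⊤ := by
    refine eq_of_le_of_card_ge le_top ?_
    rw [card_top]
    have h1 := act.ker.card_mul_index
    rw [index_ker, hker] at h1
    have hcl2 : Nat.card ↥(((Subgroup.center ↥K).map K.subtype).subgroupOf C) = Nat.card ↥(Subgroup.center ↥K) := by
      rw [Nat.card_congr (subgroupOfEquivOfLe ((map_subtype_le _).trans hle)).toEquiv,
        card_map_of_injective K.subtype_injective]
    rw [hcl2] at h1
    have h2 : Nat.card ↥K * 2 = Nat.card ↥C := by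
      rw [← Nat.card_congr (subgroupOfEquivOfLe hle).toEquiv, ← hidx]
      exact (K.subgroupOf C).card_mul_index
    refine hle2.trans (Nat.le_of_mul_le_mul_left (le_of_eq ?_) (show 0 < Nat.card ↥(Subgroup.center ↥K) from Nat.card_pos))
    rw [h1, ← h2, h3]
    ring
  obtain ⟨c, hc⟩ : φ ∈ act.range := hrange ▸ mem_top φ
  exact ⟨c, c.2, fun k => congrArg (fun ψ : MulAut ↥K => ((ψ k : ↥K) : G)) hc⟩

variable {G : Type*} [Group G] [Finite G] {z : G} {Q : Subgroup (centralizer ({z} : Set G))} [Q.Normal]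
  {D : Dat z Q} (X : Ctx D)

/-- An automorphism of the group fixing the small involution preserves the even part of its centraliser. -/
theorem map_M1 (σ : MulAut G) (hσ : σ (tt X) = tt X) {k : G} (hk : k ∈ M1 X) : σ k ∈ M1 X := by
  have hM : ∀ k ∈ M1 X, σ k ∈ Mt X := fun k hk => (mem_Mt X).2 (by
    have := ((mem_Mt X).1 (M1_le X hk)).map σ.toMonoidHom
    simpa [hσ] using this)
  let f : ↥(M1 X) →* ↥(Mt X) := (σ.toMonoidHom.comp (M1 X).subtype).codRestrict _ fun k => hM k k.2
  have h : commutator ↥(M1 X) ≤ ((Cent.eps X).comp f).ker := Abelianization.commutator_subset_ker _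
  rw [(M1_quasisimple X).1.1.commutator_eq_top] at h
  exact (mem_M1 X).2 ⟨hM k hk, h (mem_top ⟨k, hk⟩)⟩

/-- An automorphism fixing the small involution agrees on the even part with conjugation by an element of the
centraliser. -/
theorem exists_match (σ : MulAut G) (hσ : σ (tt X) = tt X) :
    ∃ c ∈ Mt X, ∀ k ∈ M1 X, σ k = c * k * c⁻¹ := by
  have hσ' : σ⁻¹ (tt X) = tt X := σ.injective (by rw [MulAut.apply_inv_self, hσ])
  let φ : MulAut ↥(M1 X) := MulEquiv.mk'
    ⟨fun k => ⟨σ k, map_M1 X σ hσ k.2⟩, fun k => ⟨σ⁻¹ (k : G), map_M1 X σ⁻¹ hσ' k.2⟩,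
      fun k => Subtype.ext (σ.symm_apply_apply (k : G)), fun k => Subtype.ext (σ.apply_symm_apply (k : G))⟩
    fun k k' => Subtype.ext (map_mul σ (k : G) k')
  obtain ⟨hqs, hcen, ⟨e⟩⟩ := M1_quasisimple X
  obtain ⟨c, hc, h⟩ := aut_surj (M1_le X) (index_M1 X) (fun g hg h => M1_cent X hg h)
    (t := tt X) (by rw [hcen, map_subgroupOf_eq_of_le (zpowers_le.2 (tt_M1 X))]) hqs e φ
  exact ⟨c, hc, fun k hk => (h ⟨k, hk⟩).symm⟩

end CfsgLib.FiLarge.Aut
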