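import Cfsg.Agent.FiLarge.Cent.Final
import Cfsg.Agent.TC23.FromFi22
import Cfsg.Agent.Coset.FischerTypes

/-!
Properties of Fi22 transported along an isomorphism.
-/

set_option autoImplicit false
set_option linter.style.haveILetI false
set_option linter.unusedSectionVars false

namespace CfsgLib.FiLarge.Aut

open CfsgLib Subgroup

/-- An involution with centraliser a double cover of the unitary group, not weakly closed. -/
theorem fi22_invol {R : Type*} [Group R] (e : Cfsg.Spor.Fi22 ≃* R) :
    ∃ d' : R, orderOf d' = 2 ∧ Cfsg.IsQuasisimple ↥(centralizer ({d'} : Set R)) ∧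
      (∃ (K : Type) (_ : Field K) (_ : Fintype K), Fintype.card K = 4 ∧
        ∃ _ : ((zpowers d').subgroupOf (centralizer ({d'} : Set R))).Normal,
          Nonempty (↥(centralizer ({d'} : Set R)) ⧸ (zpowers d').subgroupOf (centralizer ({d'} : Set R)) ≃*
            Cfsg.PSU 6 K 2)) ∧
      ∃ g, g * d' * g⁻¹ ∈ centralizer ({d'} : Set R) ∧ g * d' * g⁻¹ ≠ d' := by
  classical
  set d' := e TC23.t22
  have hmap : TC23.C22.map e.toMonoidHom = centralizer ({d'} : Set R) := by
    ext x
    obtain ⟨x, rfl⟩ := e.surjective x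
    rw [mem_centralizer_singleton_iff]
    constructor
    · rintro ⟨y, hy, hye⟩
      rw [← hye]
      show e y * d' = d' * e y
      rw [← map_mul, ← map_mul, mem_centralizer_singleton_iff.1 hy]
    · intro h
      refine ⟨x, mem_centralizer_singleton_iff.2 (e.injective ?_), rfl⟩
      rw [map_mul, map_mul]; exact h
  let i : ↥TC23.C22 ≃* ↥(centralizer ({d'} : Set R)) :=
    (e.subgroupMap TC23.C22).trans (MulEquiv.subgroupCongr hmap)
  have hi : ∀ k, ((i k : ↥(centralizer ({d'} : Set R))) : R) = e k := fun k => rfl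
  have hqs := Comp.isQuasisimple_of_equiv i TC23.quasisimple_C22
  have hz : (zpowers d').subgroupOf (centralizer ({d'} : Set R)) =
      ((zpowers TC23.t22).subgroupOf TC23.C22).map i.toMonoidHom := by
    ext x
    obtain ⟨x, rfl⟩ := i.surjective x
    rw [mem_subgroupOf, hi, show zpowers d' = (zpowers TC23.t22).map e.toMonoidHom from
      (MonoidHom.map_zpowers e.toMonoidHom TC23.t22).symm]
    constructor
    · rintro ⟨y, hy, hye⟩
      exact ⟨x, mem_subgroupOf.2 (e.injective hye ▸ hy), rfl⟩
    · rintro ⟨y, hy, hye⟩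
      exact ⟨y, mem_subgroupOf.1 hy, (hi y).symm.trans (congrArg Subtype.val hye)⟩
  have hcen : (zpowers d').subgroupOf (centralizer ({d'} : Set R)) = Subgroup.center _ := by
    rw [hz, TC23.zpowers_eq, Quad.map_center_equiv]
  haveI hn : ((zpowers d').subgroupOf (centralizer ({d'} : Set R))).Normal := hcen ▸ inferInstance
  haveI h22n : ((zpowers TC23.t22).subgroupOf TC23.C22).Normal := TC23.zpowers_eq ▸ inferInstance
  obtain ⟨q⟩ := TC23.quot_C22
  obtain ⟨g, hg, hne⟩ := TC23.fi22_nwc
  refine ⟨d', by rw [MulEquiv.orderOf_eq]; exact Coset.Fi22.orderOf_t, hqs,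
    ⟨Coset.G24.F4, inferInstance, inferInstance, by rw [← Nat.card_eq_fintype_card, Coset.U62.hF]; norm_num, hn,
      ⟨(QuotientGroup.congr _ _ i hz.symm).symm.trans q⟩⟩, e g, ?_, ?_⟩
  · rw [← map_inv, ← map_mul, ← map_mul, ← hmap]; exact mem_map_of_mem _ hg
  · rw [← map_inv, ← map_mul, ← map_mul]; exact fun h => hne (e.injective h)

/-- The class of transpositions. -/
theorem fi22_class_exists {R : Type*} [Group R] (e : Cfsg.Spor.Fi22 ≃* R) :
    ∃ E : Set R, Cfsg.IsThreeTranspositionClass E ∧ Cfsg.IsOfTypeM22 R E := by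
  haveI := Coset.Fi22.card_le.1
  haveI : Finite R := Finite.of_equiv _ e.toEquiv
  exact ⟨e '' conjugatesOf TC23.t22, TC23.class_map e TC23.fi22_class,
    TC23.type22_map e _ Coset.FischerTypes.type22⟩

end CfsgLib.FiLarge.Aut
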