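import Cfsg.Agent.FiLarge.Aut.Outer
import Cfsg.Agent.FiLarge.Aut.Transfer
import Cfsg.Agent.S5402

/-!
The centraliser of the outer involution is of type M(23).
-/

set_option autoImplicit false
set_option quotPrecheck false
set_option linter.style.haveILetI false
set_option linter.unusedSectionVars false
set_option maxRecDepth 100000

namespace CfsgLib.FiLarge.Aut

open CfsgLib Subgroup CfsgLib.FiLarge.Thom CfsgLib.FiLarge.U62 CfsgLib.FiLarge.Cent

variable {W : Type*} [Group W] [Finite W] {G₀ : Subgroup W} {z : ↥G₀}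
  {Q : Subgroup (centralizer ({z} : Set ↥G₀))} [Q.Normal] {D : Dat z Q}

/-- The data of the centraliser of a given outer involution. -/
theorem m23_of (X : Ctx D) {d : W} (hdM : ∀ k ∈ M1 X, Commute d (k : W))
    (hdonly : ∀ g ∈ Mt X, Commute d (g : W) → g ∈ M1 X)
    (hmove : ∃ m : ↥(normalizer (A0 D : Set ↥G₀)), pp X m ptA = ptA ∧ pp X m ptB = ptC ∧
      Commute d ((m : ↥G₀) : W)) :
    ∃ t : ↥(G₀ ⊓ centralizer ({d} : Set W)),
      orderOf t = 2 ∧ ((t : W) = ((tt X : ↥G₀) : W)) ∧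
      Cfsg.IsQuasisimple ↥(centralizer ({t} : Set ↥(G₀ ⊓ centralizer ({d} : Set W)))) ∧
      (∃ _ : ((zpowers t).subgroupOf (centralizer ({t} : Set ↥(G₀ ⊓ centralizer ({d} : Set W))))).Normal,
        Nonempty (Cfsg.Spor.Fi22 ≃* ↥(centralizer ({t} : Set ↥(G₀ ⊓ centralizer ({d} : Set W)))) ⧸
          (zpowers t).subgroupOf (centralizer ({t} : Set ↥(G₀ ⊓ centralizer ({d} : Set W)))))) ∧
      (∃ g, g * t * g⁻¹ ∈ centralizer ({t} : Set ↥(G₀ ⊓ centralizer ({d} : Set W))) ∧ g * t * g⁻¹ ≠ t) := by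
  classical
  obtain ⟨m, mA, mB, hdm⟩ := hmove
  obtain ⟨n1, n2, n3⟩ := abc_ne
  set Y := G₀ ⊓ centralizer ({d} : Set W)
  have hY : ∀ x : ↥G₀, Commute d (x : W) → (x : W) ∈ Y :=
    fun x hx => mem_inf.2 ⟨x.2, mem_centralizer_singleton_iff.2 hx.eq.symm⟩
  set t : ↥Y := ⟨((tt X : ↥G₀) : W), hY _ (hdM _ (tt_M1 X))⟩
  set C := centralizer ({t} : Set ↥Y)
  let f : ↥(M1 X) →* ↥C := MonoidHom.mk' (fun k => ⟨⟨((k : ↥G₀) : W), hY _ (hdM _ k.2)⟩,
    mem_centralizer_singleton_iff.2 (Subtype.ext (congrArg Subtype.val ((mem_Mt X).1 (M1_le X k.2)).eq :))⟩)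
    fun k k' => rfl
  have hf : Function.Bijective f := by
    refine ⟨fun k k' e => Subtype.ext (Subtype.ext (congrArg (fun c : ↥C => ((c : ↥Y) : W)) e)), fun c => ?_⟩
    obtain ⟨hc1, hc2⟩ := mem_inf.1 (c : ↥Y).2
    have hcM : (⟨((c : ↥Y) : W), hc1⟩ : ↥G₀) ∈ Mt X := (mem_Mt X).2 (Subtype.ext (by
      exact (congrArg Subtype.val (mem_centralizer_singleton_iff.1 c.2) :)))
    exact ⟨⟨_, hdonly _ hcM (mem_centralizer_singleton_iff.1 hc2).symm⟩, rfl⟩
  let i : ↥(M1 X) ≃* ↥C := MulEquiv.ofBijective f hf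
  obtain ⟨hqs, hcen, ⟨e⟩⟩ := M1_quasisimple X
  have hz : (zpowers t).subgroupOf C = Subgroup.center ↥C := by
    rw [← Quad.map_center_equiv i, hcen]
    ext c
    obtain ⟨k, rfl⟩ := i.surjective c
    constructor
    · intro h
      refine ⟨k, mem_subgroupOf.2 ((zpowers_tt X).2 ?_), rfl⟩
      obtain ⟨j, hj⟩ := mem_zpowers_iff.1 (mem_subgroupOf.1 h)
      have h2 : (tt X) ^ j = (k : ↥G₀) := Subtype.ext (by
        rw [SubgroupClass.coe_zpow]
        exact (SubgroupClass.coe_zpow t j).symm.trans (congrArg Subtype.val hj))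
      exact (zpowers_tt X).1 (h2 ▸ zpow_mem (mem_zpowers _) j)
    · rintro ⟨k', hk', e⟩
      rw [i.injective e] at hk'
      refine mem_subgroupOf.2 ?_
      rcases (zpowers_tt X).1 (mem_subgroupOf.1 hk') with q | q
      · rw [show ((i k : ↥C) : ↥Y) = 1 from Subtype.ext (congrArg Subtype.val q :)]; exact one_mem _
      · rw [show ((i k : ↥C) : ↥Y) = t from Subtype.ext (congrArg Subtype.val q :)]; exact mem_zpowers _
  haveI hn : ((zpowers t).subgroupOf C).Normal := hz ▸ inferInstance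
  have htne : (tt X : ↥G₀) ≠ 1 := ((mem_nS D).1 (X.L.mem _ _ n1)).2.1
  refine ⟨t, ?_, rfl, Comp.isQuasisimple_of_equiv i hqs, ⟨hn, ⟨?_⟩⟩, ?_⟩
  · refine orderOf_eq_prime (Subtype.ext ?_) fun h => htne (Subtype.ext (congrArg Subtype.val h :))
    rw [pow_two]
    exact (congrArg Subtype.val (X.lab_mul_self ptA ptB) :)
  · exact e.symm.trans ((QuotientGroup.congr _ _ i (Quad.map_center_equiv i)).trans
      (QuotientGroup.quotientMulEquivOfEq hz.symm))
  · refine ⟨⟨((m : ↥G₀) : W), hY _ hdm⟩, ?_, ?_⟩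
    · refine mem_centralizer_singleton_iff.2 (Subtype.ext ?_)
      have h1 : ((m : ↥G₀) * tt X * (m : ↥G₀)⁻¹) * tt X = tt X * ((m : ↥G₀) * tt X * (m : ↥G₀)⁻¹) := by
        rw [X.L.conj]; exact (X.comm (X.lab_A0 _ _) (X.lab_A0 _ _)).eq
      exact (congrArg Subtype.val h1 :)
    · intro h
      have h1 : (m : ↥G₀) * tt X * (m : ↥G₀)⁻¹ = tt X := Subtype.ext (congrArg Subtype.val h :)
      refine ((mem_nS D).1 (X.L.mem _ _ n2)).2.1 ?_
      rw [X.L.conj] at h1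
      rw [show (X.L.φ m : Equiv.Perm Cfsg.GolayPt) ptA = ptA from mA,
        show (X.L.φ m : Equiv.Perm Cfsg.GolayPt) ptB = ptC from mB] at h1
      rw [← X.L.trans ptB ptA ptC, X.L.symm ptB ptA, h1, X.lab_mul_self]

/-- The data of the outer centraliser. -/
theorem exists_m23 (hidx : G₀.index = 2) (X : Ctx D)
    (hcentral : ∃ P : Sylow 2 ↥G₀, z ∈ (P : Subgroup ↥G₀) ∧ ∀ x ∈ (P : Subgroup ↥G₀), Commute x z)
    (hFX : (Cfsg.generalizedFittingSubgroup ↥(centralizer ({(z : W)} : Set W))).map (Subgroup.subtype _) =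
      (Q.map (Subgroup.subtype (centralizer ({z} : Set ↥G₀)))).map G₀.subtype) :
    ∃ d : W, orderOf d = 2 ∧ d ∉ G₀ ∧ Commute d (z : W) ∧ ∃ t : ↥(G₀ ⊓ centralizer ({d} : Set W)),
      orderOf t = 2 ∧ ((t : W) = ((tt X : ↥G₀) : W)) ∧
      Cfsg.IsQuasisimple ↥(centralizer ({t} : Set ↥(G₀ ⊓ centralizer ({d} : Set W)))) ∧
      (∃ _ : ((zpowers t).subgroupOf (centralizer ({t} : Set ↥(G₀ ⊓ centralizer ({d} : Set W))))).Normal,
        Nonempty (Cfsg.Spor.Fi22 ≃* ↥(centralizer ({t} : Set ↥(G₀ ⊓ centralizer ({d} : Set W)))) ⧸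
          (zpowers t).subgroupOf (centralizer ({t} : Set ↥(G₀ ⊓ centralizer ({d} : Set W)))))) ∧
      (∃ g, g * t * g⁻¹ ∈ centralizer ({t} : Set ↥(G₀ ⊓ centralizer ({d} : Set W))) ∧ g * t * g⁻¹ ≠ t) := by
  obtain ⟨d, hd, hdG, hdz, hdM, hdonly, hmove⟩ := exists_d hidx X hcentral hFX
  exact ⟨d, hd, hdG, hdz, m23_of X hdM hdonly hmove⟩

end CfsgLib.FiLarge.Aut
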