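import Cfsg.Agent.FiLarge.Cent.Final

/-!
Permutations of the labels: generation of the normaliser and the elements fixed by the stabiliser of three points.
-/

set_option autoImplicit false
set_option linter.style.haveILetI false
set_option linter.unusedSectionVars false
set_option maxRecDepth 100000

namespace CfsgLib.FiLarge.Aut

open CfsgLib Subgroup CfsgLib.FiLarge.Thom CfsgLib.FiLarge.U62 CfsgLib.FiLarge.Cent

variable {G : Type*} [Group G] [Finite G] {z : G} {Q : Subgroup (centralizer ({z} : Set G))} [Q.Normal]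
  {D : Dat z Q} (X : Ctx D)

local notation "NA" => normalizer (A0 D : Set G)

/-- The permutation over an element of the normaliser. -/
noncomputable abbrev pp (n : ↥NA) : Equiv.Perm Cfsg.GolayPt := (X.L.φ n : Equiv.Perm Cfsg.GolayPt)

theorem pp_mul (m n : ↥NA) (p : Cfsg.GolayPt) : pp X (m * n) p = pp X m (pp X n p) := by
  show (X.L.φ (m * n) : Equiv.Perm Cfsg.GolayPt) p = _
  rw [map_mul]; rfl

theorem pp_inv {m : ↥NA} {p q : Cfsg.GolayPt} (h : pp X m p = q) : pp X m⁻¹ q = p := by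
  rw [← h]
  show (X.L.φ m⁻¹ : Equiv.Perm Cfsg.GolayPt) _ = _
  rw [map_inv]
  exact (pp X m).symm_apply_apply p

theorem mem_C_of_fix {n : ↥NA} (ha : pp X n ptA = ptA) (hb : pp X n ptB = ptB) (hc : pp X n ptC = ptC) :
    (n : G) ∈ X.C := by
  refine X.mem_C.2 ⟨mul_inv_eq_iff_eq_mul.1 ?_, mul_inv_eq_iff_eq_mul.1 ?_⟩
  · rw [X.L.conj, ha, hb]
  · rw [X.L.conj, hb, hc]

theorem mem_Mt_of_fix {n : ↥NA} (ha : pp X n ptA = ptA) (hb : pp X n ptB = ptB) : (n : G) ∈ Mt X :=
  (mem_Mt X).2 (mul_inv_eq_iff_eq_mul.1 (by rw [X.L.conj, ha, hb]))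

theorem exists_three {a b c a' b' c' : Cfsg.GolayPt} (hab : a ≠ b) (hbc : b ≠ c) (hac : a ≠ c)
    (hab' : a' ≠ b') (hbc' : b' ≠ c') (hac' : a' ≠ c') :
    ∃ n : ↥NA, pp X n a = a' ∧ pp X n b = b' ∧ pp X n c = c' := by
  obtain ⟨g, g1, g2, g3⟩ := move_three a b c hab hbc hac
  obtain ⟨g', q1, q2, q3⟩ := move_three a' b' c' hab' hbc' hac'
  obtain ⟨n, hn⟩ := X.L.surj (g'⁻¹ * g)
  have e : ∀ p q r, (g : Equiv.Perm Cfsg.GolayPt) p = r → (g' : Equiv.Perm Cfsg.GolayPt) q = r →
      pp X n p = q := fun p q r h h' => by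
    show (X.L.φ n : Equiv.Perm Cfsg.GolayPt) p = q
    rw [hn, Subgroup.coe_mul, Subgroup.coe_inv, Equiv.Perm.mul_apply, Equiv.Perm.inv_eq_iff_eq, h, h']
  exact ⟨n, e _ _ _ g1 q1, e _ _ _ g2 q2, e _ _ _ g3 q3⟩

theorem exists_swapBC : ∃ m : ↥NA, pp X m ptA = ptA ∧ pp X m ptB = ptC ∧ pp X m ptC = ptB := by
  obtain ⟨n1, n2, n3⟩ := abc_ne
  exact exists_three X n1 n2 n3 n3 n2.symm n1

/-- The centraliser of the first involution with a further element moving the second point generates the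
normaliser. -/
theorem normalizer_le {S : Subgroup G} (hM : Mt X ≤ S) {m : ↥NA} (hmS : (m : G) ∈ S) (hA : pp X m ptA = ptA)
    (hB : pp X m ptB = ptC) : NA ≤ S := by
  obtain ⟨n1, n2, n3⟩ := abc_ne
  have key : ∀ k n : ↥NA, (k : G) ∈ S → ((k⁻¹ * n : ↥NA) : G) ∈ S → (n : G) ∈ S := fun k n h1 h2 => by
    have := mul_mem h1 h2
    rwa [← Subgroup.coe_mul, mul_inv_cancel_left] at this
  have hfix : ∀ n : ↥NA, pp X n ptA = ptA → (n : G) ∈ S := by
    intro n ha
    by_cases hb : pp X n ptB = ptB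
    · exact hM (mem_Mt_of_fix X ha hb)
    have hyA : pp X n ptB ≠ ptA := fun e => n1 ((pp X n).injective (ha.trans e.symm))
    obtain ⟨h, h1, h2, h3⟩ := exists_three X n1 n2 n3 n1 (Ne.symm hb) (Ne.symm hyA) (a' := ptA) (b' := ptB)
      (c' := pp X n ptB)
    refine key (h * m) n (mul_mem (hM (mem_Mt_of_fix X h1 h2)) hmS) (hM (mem_Mt_of_fix X ?_ ?_))
    · rw [pp_mul, ha, pp_inv X (p := ptA)]
      rw [pp_mul, hA, h1]
    · rw [pp_mul, pp_inv X (p := ptB)]
      rw [pp_mul, hB, h3]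
  intro g hg
  set n : ↥NA := ⟨g, hg⟩
  show (n : G) ∈ S
  by_cases ha : pp X n ptA = ptA
  · exact hfix n ha
  obtain ⟨s, s1, s2, -⟩ := exists_three X n1 n2 n3 n1.symm n3 n2 (a' := ptB) (b' := ptA) (c' := ptC)
  have hsM : (s : G) ∈ Mt X := (mem_Mt X).2 (mul_inv_eq_iff_eq_mul.1 (by rw [X.L.conj, s1, s2, X.L.symm]))
  set x := pp X n ptA
  obtain ⟨k, k1, k2⟩ : ∃ k : ↥NA, pp X k ptA = ptA ∧ pp X k ptB = x := by
    by_cases hxC : x = ptC
    · exact ⟨m, hA, hB.trans hxC.symm⟩
    · obtain ⟨k, k1, k2, -⟩ := exists_three X n1 n2 n3 (a' := ptA) (b' := x) (c' := ptC) (Ne.symm ha) hxC n3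
      exact ⟨k, k1, k2⟩
  refine key (k * s) n (mul_mem (hfix k k1) (hM hsM)) (hfix _ ?_)
  rw [pp_mul, pp_inv X (p := ptA)]
  rw [pp_mul, s1, k2]

theorem ev_ne_one {t : Finset Cfsg.GolayPt} (h : t.card = 2 ∨ t.card = 4 ∨ t.card = 6) : X.L.ev t ≠ 1 := by
  classical
  have h2 : ∀ u : Finset Cfsg.GolayPt, u.card = 2 → X.L.ev u ≠ 1 := fun u hu => by
    obtain ⟨p, q, hpq, rfl⟩ := Finset.card_eq_two.1 hu
    rw [X.L.pair p q hpq]
    exact ((mem_nS D).1 (X.L.mem p q hpq)).2.1
  have h4 : ∀ u : Finset Cfsg.GolayPt, u.card = 4 → X.L.ev u ≠ 1 := fun u hu e =>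
    not_conj_one D (e ▸ X.L.four u hu)
  rcases h with h | h | h
  · exact h2 t h
  · exact h4 t h
  intro e
  obtain ⟨x, hx⟩ := Finset.card_pos.1 (show 0 < t.card by omega)
  obtain ⟨o, ho, hs⟩ := exists_octad (s := t.erase x) (by rw [Finset.card_erase_of_mem hx]; omega)
  have he : X.L.ev (symmDiff o t) = 1 := by rw [X.L.ev_add, X.L.octad o ho, e, one_mul]
  have hc : (symmDiff o t).card = (o \ t).card + (t \ o).card :=
    Finset.card_union_of_disjoint disjoint_sdiff_sdiff
  have ho8 := Golay.octad_card ho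
  have h5 : 5 ≤ (o ∩ t).card := by
    refine le_trans ?_ (Finset.card_le_card (show t.erase x ⊆ o ∩ t from fun p hp =>
      Finset.mem_inter.2 ⟨hs hp, Finset.mem_of_mem_erase hp⟩))
    rw [Finset.card_erase_of_mem hx]; omega
  have h6 : (o ∩ t).card ≤ t.card := Finset.card_le_card Finset.inter_subset_right
  have e1 := Finset.card_sdiff_add_card_inter o t
  have e2 := Finset.card_sdiff_add_card_inter t o
  rw [Finset.inter_comm t o] at e2
  obtain hk | hk : (o ∩ t).card = 5 ∨ (o ∩ t).card = 6 := by omega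
  · exact h4 _ (by omega) he
  · exact h2 _ (by omega) he

theorem ev_inj {s s' : Finset Cfsg.GolayPt} (hc : s.card = s'.card) (h3 : (s \ s').card ≤ 3)
    (he : X.L.ev s = X.L.ev s') : s = s' := by
  classical
  by_contra hne
  have hd : (symmDiff s s').card = 2 * (s \ s').card := by
    rw [show (symmDiff s s').card = (s \ s').card + (s' \ s).card from
      Finset.card_union_of_disjoint disjoint_sdiff_sdiff, ← Finset.card_sdiff_comm hc]
    ring
  have hpos : 0 < (s \ s').card := Finset.card_pos.2 (Finset.sdiff_nonempty.2 fun hsub =>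
    hne (Finset.eq_of_subset_of_card_le hsub hc.ge))
  refine ev_ne_one X (t := symmDiff s s') (by omega) ?_
  rw [X.L.ev_add, he, X.sq (X.L.ev_mem s')]

theorem conj_ev (m : ↥NA) {s : Finset Cfsg.GolayPt} (h : s.card = 2 ∨ s.card = 4) :
    (m : G) * X.L.ev s * (m : G)⁻¹ = X.L.ev (s.image (pp X m)) := by
  classical
  have hinj : Function.Injective (pp X m) := (pp X m).injective
  rcases h with h | h
  · obtain ⟨p, q, hpq, rfl⟩ := Finset.card_eq_two.1 h
    rw [Finset.image_insert, Finset.image_singleton, X.L.pair p q hpq, X.L.pair _ _ (hinj.ne hpq), X.L.conj]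
  · obtain ⟨p, hp⟩ := Finset.card_pos.1 (show 0 < s.card by omega)
    obtain ⟨q, hq⟩ := Finset.card_pos.1 (show 0 < (s.erase p).card by rw [Finset.card_erase_of_mem hp]; omega)
    obtain ⟨r, t, hrt, e⟩ := Finset.card_eq_two.1 (show ((s.erase p).erase q).card = 2 by
      rw [Finset.card_erase_of_mem hq, Finset.card_erase_of_mem hp]; omega)
    have hs : s = insert p (insert q {r, t}) := by
      rw [← e, Finset.insert_erase hq, Finset.insert_erase hp]
    have hq' : q ∉ ({r, t} : Finset Cfsg.GolayPt) := by rw [← e]; exact Finset.notMem_erase _ _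
    have hp' : p ∉ ({r, t} : Finset Cfsg.GolayPt) := by rw [← e]; simp
    have hpq : p ≠ q := (Finset.ne_of_mem_erase hq).symm
    have himg : ∀ u, u ∉ ({r, t} : Finset Cfsg.GolayPt) →
        pp X m u ∉ ({pp X m r, pp X m t} : Finset Cfsg.GolayPt) := fun u hu => by
      simpa [hinj.eq_iff] using hu
    rw [hs, Finset.image_insert, Finset.image_insert, Finset.image_insert, Finset.image_singleton,
      X.pair_union hpq hp' hq', X.pair_union (hinj.ne hpq) (himg p hp') (himg q hq'), X.L.pair r t hrt,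
      X.L.pair _ _ (hinj.ne hrt), ← Thom.conj_mul, X.L.conj, X.L.conj]

/-- An element of the abelian subgroup fixed by the stabiliser of the three points lies in the four-group. -/
theorem fixed_mem_E {a : G} (ha : a ∈ A0 D)
    (h : ∀ m : ↥NA, pp X m ptA = ptA → pp X m ptB = ptB → pp X m ptC = ptC → (m : G) * a * (m : G)⁻¹ = a) :
    a ∈ X.E := by
  classical
  by_cases h1 : a = 1
  · rw [h1]; exact one_mem _
  have move : ∀ s : Finset Cfsg.GolayPt, (s.card = 2 ∨ s.card = 4 ∧ ptA ∈ s) → X.L.ev s = a →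
      ∀ x ∈ s, IsPoint x → False := by
    intro s hs hev x hx hp
    obtain ⟨y, -, hy⟩ := Finset.exists_mem_notMem_of_card_lt_card
      (show (s ∪ abc).card < (Finset.univ : Finset Cfsg.GolayPt).card by
        have := Finset.card_union_le s abc
        rw [card_abc] at this
        rw [Finset.card_univ, Golay.card_golayPt]
        omega)
    simp only [Finset.mem_union, not_or] at hy
    obtain ⟨y1, y2, y3⟩ := isPoint_iff.2 hy.2
    obtain ⟨n1, n2, n3⟩ := abc_ne
    obtain ⟨x1, x2, x3⟩ := hp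
    obtain ⟨g, g1, g2, g3, g4⟩ := move_four (a := ptA) (b := ptB) (c := ptC) (e := x) (a' := ptA) (b' := ptB)
      (c' := ptC) (e' := y) (by simp [n1, n2, n3, x1.symm, x2.symm, x3.symm])
      (by simp [n1, n2, n3, y1.symm, y2.symm, y3.symm])
    obtain ⟨m, hm⟩ := X.L.surj g
    subst hm
    have e := h m g1 g2 g3
    rw [← hev, conj_ev X m (hs.imp id And.left)] at e
    have hc : (s.image (pp X m)).card = s.card := Finset.card_image_of_injective _ (pp X m).injective
    have heq := ev_inj X hc (by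
      rcases hs with hs | ⟨hs, hA⟩
      · exact (Finset.card_le_card Finset.sdiff_subset).trans (by omega)
      · refine (Finset.card_le_card (show s.image (pp X m) \ s ⊆ (s.image (pp X m)).erase ptA from fun p hp =>
          Finset.mem_erase.2 ⟨fun e => (Finset.mem_sdiff.1 hp).2 (e ▸ hA), (Finset.mem_sdiff.1 hp).1⟩)).trans ?_
        rw [Finset.card_erase_of_mem (Finset.mem_image.2 ⟨ptA, hA, g1⟩), hc, hs]) e
    exact hy.1 (heq ▸ Finset.mem_image.2 ⟨x, hx, g4⟩)
  by_cases hz : IsConj z a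
  · obtain ⟨s, hs, hA, he⟩ := X.L.exists_four a ha hz ptA
    obtain ⟨x, hx, hx'⟩ := Finset.exists_mem_notMem_of_card_lt_card (show abc.card < s.card by rw [card_abc, hs]; norm_num)
    exact (move s (Or.inr ⟨hs, hA⟩) he x hx (isPoint_iff.2 hx')).elim
  · obtain ⟨p, q, hpq, rfl⟩ := X.L.exists_pair a ((mem_nS D).2 ⟨ha, h1, hz⟩)
    have hev := X.L.pair p q hpq
    by_cases hp : p ∈ abc
    · by_cases hq : q ∈ abc
      · exact X.lab_E_sub p q hp hq
      · exact (move {p, q} (Or.inl (Finset.card_pair hpq)) hev q (by simp) (isPoint_iff.2 hq)).elim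
    · exact (move {p, q} (Or.inl (Finset.card_pair hpq)) hev p (by simp) (isPoint_iff.2 hp)).elim

end CfsgLib.FiLarge.Aut
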