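import Cfsg.Agent.FiLarge.Aut.Full
import Cfsg.Agent.FiLarge.Aut.Perm

/-!
The outer involution centralising the even part of the centraliser of a small involution.
-/

set_option autoImplicit false
set_option quotPrecheck false
set_option linter.style.haveILetI false
set_option linter.unusedSectionVars false
set_option maxRecDepth 100000

namespace CfsgLib.FiLarge.Aut

open CfsgLib Subgroup CfsgLib.FiLarge.Thom CfsgLib.FiLarge.U62 CfsgLib.FiLarge.Cent
open CfsgLib.FiLarge.Dat (val)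
open scoped Pointwise

variable {W : Type*} [Group W] [Finite W] {G₀ : Subgroup W} {z : ↥G₀}
  {Q : Subgroup (centralizer ({z} : Set ↥G₀))} [Q.Normal] {D : Dat z Q}

local notation "QG" => Q.map (Subgroup.subtype (centralizer ({z} : Set ↥G₀)))

/-- A Sylow subgroup centralised by the central involution gives an outer element fixing it. -/
theorem exists_outer_cent (hidx : G₀.index = 2) (D : Dat z Q)
    (hcentral : ∃ P : Sylow 2 ↥G₀, z ∈ (P : Subgroup ↥G₀) ∧ ∀ x ∈ (P : Subgroup ↥G₀), Commute x z) :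
    ∃ w : W, w ∉ G₀ ∧ Commute w z := by
  classical
  haveI : G₀.Normal := normal_of_index_eq_two hidx
  haveI : Fact (Nat.Prime 2) := ⟨Nat.prime_two⟩
  obtain ⟨w0, hw0⟩ : ∃ w : W, w ∉ G₀ := by
    by_contra h
    push Not at h
    rw [(eq_top_iff' G₀).2 h, index_top] at hidx
    norm_num at hidx
  obtain ⟨P, hzP, hPz⟩ := hcentral
  let σ : MulAut ↥G₀ := MulAut.conjNormal w0
  obtain ⟨g, hg⟩ := MulAction.exists_smul_eq ↥G₀ (σ • P) P
  have hP : ∀ x ∈ (P : Subgroup ↥G₀), g * σ x * g⁻¹ ∈ (P : Subgroup ↥G₀) := fun x hx => by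
    conv => arg 1; rw [← hg]
    exact ⟨σ x, ⟨x, hx, rfl⟩, rfl⟩
  set y := g * σ z * g⁻¹
  have hyP : y ∈ (P : Subgroup ↥G₀) := hP z hzP
  have hyc : ∀ x ∈ (P : Subgroup ↥G₀), Commute x y := by
    intro x hx
    rw [← hg] at hx
    obtain ⟨_, ⟨p, hp, rfl⟩, rfl⟩ := hx
    exact (ThreeT.commute_conj_iff g _ _).2 ((hPz p hp).map σ.toMonoidHom)
  have hPH : (P : Subgroup ↥G₀) ≤ centralizer ({z} : Set ↥G₀) :=
    fun x hx => mem_centralizer_singleton_iff.2 (hPz x hx).eq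
  have hQP : QG ≤ (P : Subgroup ↥G₀) := by
    have h2 : IsPGroup 2 ↥(QG) := IsPGroup.of_card (n := 13)
      (by rw [card_map_of_injective (centralizer ({z} : Set ↥G₀)).subtype_injective, D.cardQ])
    have hsup := P.isPGroup'.to_sup_of_normal_right' h2 (hPH.trans D.pre.norm)
    exact le_sup_right.trans (P.is_maximal' hsup le_sup_left).le
  have hyQ : y ∈ QG := D.pre.self (mem_centralizer_iff.2 fun q hq => (hyc q (hQP hq)).eq)
  have hy1 : y ≠ 1 := fun e => D.pre.gen.ne_one ((map_eq_one_iff σ σ.injective).1 (conj_eq_one_iff.1 e))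
  have hyz : y = z := (D.pre.gen.center_iff y hyQ fun q hq => (hyc q (hQP hq)).eq.symm).resolve_left hy1
  refine ⟨(g : W) * w0, fun h => hw0 ?_, ?_⟩
  · simpa using mul_mem (inv_mem g.2) h
  · have e : (g : W) * (w0 * z * w0⁻¹) * (g : W)⁻¹ = (z : W) := congrArg Subtype.val hyz
    exact mul_inv_eq_iff_eq_mul.1 ((show (g : W) * w0 * (z : W) * ((g : W) * w0)⁻¹ =
      (g : W) * (w0 * z * w0⁻¹) * (g : W)⁻¹ by group).trans e)

/-- An outer element fixing the first small involution. -/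
theorem exists_outer_small (hidx : G₀.index = 2) (X : Ctx D)
    (hcentral : ∃ P : Sylow 2 ↥G₀, z ∈ (P : Subgroup ↥G₀) ∧ ∀ x ∈ (P : Subgroup ↥G₀), Commute x z)
    (hFX : (Cfsg.generalizedFittingSubgroup ↥(centralizer ({(z : W)} : Set W))).map (Subgroup.subtype _) =
      (QG).map G₀.subtype) :
    ∃ w : W, w ∉ G₀ ∧ Commute w ((tt X : ↥G₀) : W) := by
  classical
  haveI : G₀.Normal := normal_of_index_eq_two hidx
  obtain ⟨w, hw, hwz⟩ := exists_outer_cent hidx D hcentral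
  let σ : MulAut ↥G₀ := MulAut.conjNormal w
  have hσz : σ z = z := Subtype.ext (mul_inv_eq_iff_eq_mul.2 hwz.eq)
  obtain ⟨q, hq⟩ : ∃ q : Q, val q = σ (tt X) := by
    have h0 : ((tt X : ↥G₀) : W) ∈ (QG).map G₀.subtype := mem_map_of_mem _ (X.E_le_Q X.ab_E)
    rw [← hFX] at h0
    obtain ⟨f, hf, e⟩ := h0
    have h1 : (σ (tt X) : W) ∈
        (Cfsg.generalizedFittingSubgroup ↥(centralizer ({(z : W)} : Set W))).map (Subgroup.subtype _) := by
      refine ⟨⟨w, mem_centralizer_singleton_iff.2 hwz.eq⟩ * f * ⟨w, mem_centralizer_singleton_iff.2 hwz.eq⟩⁻¹,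
        (inferInstance : (Cfsg.generalizedFittingSubgroup ↥(centralizer ({(z : W)} : Set W))).Normal).conj_mem f hf _,
        ?_⟩
      show w * (f : W) * w⁻¹ = w * ((tt X : ↥G₀) : W) * w⁻¹
      rw [show (f : W) = ((tt X : ↥G₀) : W) from e]
    rw [hFX] at h1
    obtain ⟨y, ⟨q, hq, rfl⟩, e'⟩ := h1
    exact ⟨⟨q, hq⟩, Subtype.ext e'⟩
  have htt1 : tt X ≠ 1 := ((mem_nS D).1 (X.L.mem _ _ abc_ne.1)).2.1
  have htz : ¬ IsConj z (tt X) := X.not_z X.ab_E htt1
  have hnz : ¬ IsConj z (val q) := fun h => htz (by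
    have h' := σ⁻¹.toMonoidHom.map_isConj (hq ▸ h)
    simp only [MulEquiv.coe_toMonoidHom, MulAut.inv_apply_self] at h'
    rwa [show σ⁻¹ z = z from σ.injective (by rw [MulAut.apply_inv_self, hσz])] at h')
  have hq1 : val q ≠ 1 := by rw [hq]; exact fun e => htt1 ((map_eq_one_iff σ σ.injective).1 e)
  have hsq : val q * val q = 1 := by rw [hq, ← map_mul, X.lab_mul_self, map_one]
  have h0 : D.π q ≠ 0 := fun e => by
    rcases (D.π_eq_zero q).1 e with h | h
    · exact hq1 h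
    · exact hnz (by rw [show val q = z from h])
  have hsing : qn (D.π q) = 0 := (D.sq_iff q).1 (Subtype.ext (Subtype.ext hsq))
  have horb : D.π q ∈ D.T.orb ⊤ v2 := by
    by_contra h
    exact hnz (large_z D X.hgs X.hsz hsing h0 h)
  have hqa : D.π X.qa ∈ D.T.orb ⊤ v2 := by
    rw [X.πa]; simpa only [one_smul] using smul_v2_small D.T (one_ne_zero (α := F4))
  have hc0 := small_conj D hqa horb
  rw [X.ea, hq] at hc0
  obtain ⟨c, hc⟩ := isConj_iff.1 hc0
  refine ⟨(c : W)⁻¹ * w, fun h => hw ?_, ?_⟩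
  · simpa using mul_mem c.2 h
  · have e : (c : W) * ((tt X : ↥G₀) : W) * (c : W)⁻¹ = w * ((tt X : ↥G₀) : W) * w⁻¹ := congrArg Subtype.val hc
    exact mul_inv_eq_iff_eq_mul.1 (by
      rw [show (c : W)⁻¹ * w * ((tt X : ↥G₀) : W) * ((c : W)⁻¹ * w)⁻¹ = (c : W)⁻¹ * (w * ((tt X : ↥G₀) : W) * w⁻¹) * c by group, ← e]
      group)

/-- An outer element centralising the even part. -/
theorem exists_outer_even (hidx : G₀.index = 2) (X : Ctx D)
    (hcentral : ∃ P : Sylow 2 ↥G₀, z ∈ (P : Subgroup ↥G₀) ∧ ∀ x ∈ (P : Subgroup ↥G₀), Commute x z)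
    (hFX : (Cfsg.generalizedFittingSubgroup ↥(centralizer ({(z : W)} : Set W))).map (Subgroup.subtype _) =
      (QG).map G₀.subtype) :
    ∃ u : W, u ∉ G₀ ∧ ∀ k ∈ M1 X, Commute u (k : W) := by
  haveI : G₀.Normal := normal_of_index_eq_two hidx
  obtain ⟨w, hw, hwt⟩ := exists_outer_small hidx X hcentral hFX
  obtain ⟨c, -, h⟩ := exists_match X (MulAut.conjNormal w) (Subtype.ext (mul_inv_eq_iff_eq_mul.2 hwt.eq))
  refine ⟨(c : W)⁻¹ * w, fun hh => hw ?_, fun k hk => ?_⟩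
  · simpa using mul_mem c.2 hh
  · have e : w * (k : W) * w⁻¹ = (c : W) * k * (c : W)⁻¹ := congrArg Subtype.val (h k hk)
    exact mul_inv_eq_iff_eq_mul.1 (by
      rw [show (c : W)⁻¹ * w * (k : W) * ((c : W)⁻¹ * w)⁻¹ = (c : W)⁻¹ * (w * (k : W) * w⁻¹) * c by group, e]
      group)

local notation "NA" => normalizer (A0 D : Set ↥G₀)

/-- The outer involution. -/
theorem exists_d (hidx : G₀.index = 2) (X : Ctx D)
    (hcentral : ∃ P : Sylow 2 ↥G₀, z ∈ (P : Subgroup ↥G₀) ∧ ∀ x ∈ (P : Subgroup ↥G₀), Commute x z)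
    (hFX : (Cfsg.generalizedFittingSubgroup ↥(centralizer ({(z : W)} : Set W))).map (Subgroup.subtype _) =
      (QG).map G₀.subtype) :
    ∃ d : W, orderOf d = 2 ∧ d ∉ G₀ ∧ Commute d (z : W) ∧ (∀ k ∈ M1 X, Commute d (k : W)) ∧
      (∀ g ∈ Mt X, Commute d (g : W) → g ∈ M1 X) ∧
      ∃ m : ↥NA, pp X m ptA = ptA ∧ pp X m ptB = ptC ∧ Commute d ((m : ↥G₀) : W) := by
  classical
  haveI : G₀.Normal := normal_of_index_eq_two hidx
  obtain ⟨u, hu, huM⟩ := exists_outer_even hidx X hcentral hFX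
  obtain ⟨n1, n2, n3⟩ := abc_ne
  have hA0 : ∀ a ∈ A0 D, Commute u (a : W) := fun a ha => huM a (C_le_M1 X (X.A0_le_C ha))
  have two : ∀ x y : W, x ∉ G₀ → y ∉ G₀ → x * y ∈ G₀ := fun x y hx hy =>
    (mul_mem_iff_of_index_two hidx).2 ⟨fun h => absurd h hx, fun h => absurd h hy⟩
  obtain ⟨m, mA, mB, mC⟩ := exists_swapBC X
  set μ : W := ((m : ↥G₀) : W)
  have hmlab : ∀ p q, μ * (X.L.lab p q : W) * μ⁻¹ = (X.L.lab (pp X m p) (pp X m q) : W) := fun p q =>
    congrArg Subtype.val (X.L.conj m p q)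
  -- the square
  have hu2 : u * u = 1 := by
    set v : ↥G₀ := ⟨u * u, two u u hu hu⟩
    have hv : ∀ k ∈ M1 X, v * k = k * v := fun k hk => Subtype.ext ((huM k hk).mul_left (huM k hk)).eq
    have hvt : v ∈ Mt X := (mem_Mt X).2 (hv _ (tt_M1 X))
    have hvM := M1_cent X hvt hv
    have hvc : (⟨v, hvM⟩ : ↥(M1 X)) ∈ Subgroup.center ↥(M1 X) :=
      mem_center_iff.2 fun k => Subtype.ext (hv k k.2).symm
    rw [(M1_quasisimple X).2.1, mem_subgroupOf] at hvc
    rcases (zpowers_tt X).1 hvc with e | e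
    · exact congrArg Subtype.val e
    exfalso
    have hme : μ * (u * u) * μ⁻¹ = u * u := by
      set α : W := μ * u * μ⁻¹ * u⁻¹
      have hα : α ∈ G₀ := two _ _ (fun h => hu (by
        have := mul_mem (mul_mem (inv_mem m.1.2) h) m.1.2
        simpa [μ, mul_assoc] using this)) (fun h => hu (inv_mem_iff.1 h))
      have hαA : (⟨α, hα⟩ : ↥G₀) ∈ A0 D := centralizer_A0_le D (mem_centralizer_iff.2 fun a ha => Subtype.ext (by
        have hm' : (m : ↥G₀)⁻¹ * a * (m : ↥G₀) ∈ A0 D := (mem_normalizer_iff''.1 m.2 a).1 ha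
        have h1 := (ThreeT.commute_conj_iff μ _ _).2 (hA0 _ hm')
        have h2 : Commute (μ * u * μ⁻¹) (a : W) := by simpa [μ, mul_assoc] using h1
        exact (h2.mul_left (hA0 a ha).inv_left).eq.symm))
      have hcom : Commute α u := (hA0 _ hαA).symm
      have hsq : α * α = 1 := congrArg Subtype.val (X.sq hαA)
      rw [show μ * (u * u) * μ⁻¹ = (α * u) * (α * u) by simp only [α]; group,
        hcom.symm.mul_mul_mul_comm α u, hsq, one_mul]
    rw [show u * u = ((tt X : ↥G₀) : W) from congrArg Subtype.val e, hmlab, mA, mB] at hme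
    have hac : X.L.lab ptA ptC = X.L.lab ptA ptB := Subtype.ext hme
    refine ((mem_nS D).1 (X.L.mem _ _ n2)).2.1 ?_
    rw [← X.L.trans ptB ptA ptC, X.L.symm ptB ptA, hac, X.lab_mul_self]
  -- the difference under the exchange
  set α : W := μ * u * μ⁻¹ * u with hαdef
  have hu' : μ * u * μ⁻¹ = α * u := by rw [hαdef, mul_assoc _ u u, hu2, mul_one]
  have hα : α ∈ G₀ := two _ _ (fun h => hu (by
    have := mul_mem (mul_mem (inv_mem m.1.2) h) m.1.2
    simpa [μ, mul_assoc] using this)) hu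
  set a : ↥G₀ := ⟨α, hα⟩
  have hμu : ∀ b ∈ A0 D, Commute (μ * u * μ⁻¹) (b : W) := fun b hb => by
    have hm' : (m : ↥G₀)⁻¹ * b * (m : ↥G₀) ∈ A0 D := (mem_normalizer_iff''.1 m.2 b).1 hb
    simpa [μ, mul_assoc] using (ThreeT.commute_conj_iff μ _ _).2 (hA0 _ hm')
  have haA : a ∈ A0 D := centralizer_A0_le D (mem_centralizer_iff.2 fun b hb =>
    Subtype.ext ((hμu b hb).mul_left (hA0 b hb)).eq.symm)
  have haE : a ∈ X.E := by
    refine fixed_mem_E X haA fun h hA hB hC => Subtype.ext ?_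
    have h1 : Commute u ((h : ↥G₀) : W) := huM _ (C_le_M1 X (mem_C_of_fix X hA hB hC))
    have h2 : Commute u (((m⁻¹ * h * m : ↥NA) : ↥G₀) : W) := by
      refine huM _ (C_le_M1 X (mem_C_of_fix X ?_ ?_ ?_))
      · rw [pp_mul, pp_mul, mA, hA, pp_inv X mA]
      · rw [pp_mul, pp_mul, mB, hC, pp_inv X mB]
      · rw [pp_mul, pp_mul, mC, hB, pp_inv X mC]
    have h3 : Commute (μ * u * μ⁻¹) ((h : ↥G₀) : W) := by
      simpa [μ, mul_assoc] using (ThreeT.commute_conj_iff μ _ _).2 h2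
    exact mul_inv_eq_iff_eq_mul.2 (h3.mul_left h1).eq.symm
  -- the fixed element
  have hm2 : Commute u (μ * μ) := by
    refine huM ((m * m : ↥NA) : ↥G₀) (C_le_M1 X (mem_C_of_fix X ?_ ?_ ?_))
    · rw [pp_mul, mA, mA]
    · rw [pp_mul, mB, mC]
    · rw [pp_mul, mC, mB]
  have hαfix : μ * α * μ⁻¹ = α := by
    have e1 : μ * (μ * u * μ⁻¹) * μ⁻¹ = u := by
      rw [show μ * (μ * u * μ⁻¹) * μ⁻¹ = μ * μ * u * (μ * μ)⁻¹ by group, ← hm2.eq]; group
    rw [hu', show μ * (α * u) * μ⁻¹ = μ * α * μ⁻¹ * (μ * u * μ⁻¹) by group, hu', ← mul_assoc, mul_eq_right,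
      mul_eq_one_iff_eq_inv] at e1
    rw [e1]
    exact inv_eq_of_mul_eq_one_right (congrArg Subtype.val (X.sq haA))
  have jk : tt X * X.L.lab ptA ptC = X.L.lab ptB ptC := by
    rw [show tt X = X.L.lab ptB ptA from X.L.symm _ _, X.L.trans]
  have hmj : μ * ((tt X : ↥G₀) : W) * μ⁻¹ = (X.L.lab ptA ptC : W) := by rw [hmlab, mA, mB]
  have hjk : ((tt X : ↥G₀) : W) ≠ (X.L.lab ptA ptC : W) := fun e => by
    refine ((mem_nS D).1 (X.L.mem _ _ n2)).2.1 ?_
    rw [← jk, ← Subtype.ext e, X.lab_mul_self]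
  obtain ⟨d, hd2, hdG, hdM, hdμ⟩ : ∃ d : W, d * d = 1 ∧ d ∉ G₀ ∧ (∀ k ∈ M1 X, Commute d (k : W)) ∧ Commute d μ := by
    rcases X.mem_E.1 haE with e | e | e | e <;> have e' : α = _ := congrArg Subtype.val e
    · refine ⟨u, hu2, hu, huM, (mul_inv_eq_iff_eq_mul.1 ?_ : μ * u = u * μ).symm⟩
      rw [hu', e', OneMemClass.coe_one, one_mul]
    · rw [e', hmj] at hαfix; exact absurd hαfix.symm hjk
    · refine ⟨u * ((tt X : ↥G₀) : W), ?_, ?_, fun k hk => (huM k hk).mul_left ?_, (mul_inv_eq_iff_eq_mul.1 ?_ :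
        μ * (u * ((tt X : ↥G₀) : W)) = u * ((tt X : ↥G₀) : W) * μ).symm⟩
      · rw [(huM _ (tt_M1 X)).symm.mul_mul_mul_comm u ((tt X : ↥G₀) : W), hu2, one_mul, ← Subgroup.coe_mul, X.lab_mul_self,
          OneMemClass.coe_one]
      · exact fun h => hu (by simpa using mul_mem h (inv_mem (tt X).2))
      · exact congrArg Subtype.val ((mem_Mt X).1 (M1_le X hk)).eq.symm
      · have hj : (X.L.lab ptB ptC : W) * (X.L.lab ptA ptC : W) = ((tt X : ↥G₀) : W) := by
          rw [← Subgroup.coe_mul, ← jk, mul_assoc, X.lab_mul_self, mul_one]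
        rw [show μ * (u * ((tt X : ↥G₀) : W)) * μ⁻¹ = μ * u * μ⁻¹ * (μ * ((tt X : ↥G₀) : W) * μ⁻¹) by group, hu', hmj, e',
          ← (hA0 _ (X.lab_A0 ptB ptC)).eq, mul_assoc, hj]
    · rw [e', hmlab, mA, mC] at hαfix; exact absurd hαfix hjk
  have hdz : Commute d (z : W) := hdM z (C_le_M1 X X.z_mem_C)
  refine ⟨d, orderOf_eq_prime (by rw [pow_two, hd2]) fun e => hdG (e ▸ one_mem _), hdG, hdz, hdM, ?_,
    m, mA, mB, hdμ⟩
  intro g hg hgd
  by_contra hgM
  let S : Subgroup ↥G₀ := (centralizer ({d} : Set W)).subgroupOf G₀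
  have hS : ∀ x : ↥G₀, x ∈ S ↔ Commute d (x : W) := fun x => by
    rw [mem_subgroupOf, mem_centralizer_singleton_iff]; exact ⟨Eq.symm, Eq.symm⟩
  have hMS : Mt X ≤ S := fun x hx => by
    by_cases hxM : x ∈ M1 X
    · exact (hS x).2 (hdM x hxM)
    have hgx : (⟨g, hg⟩⁻¹ * ⟨x, hx⟩ : ↥(Mt X)) ∈ (M1 X).subgroupOf (Mt X) :=
      (mul_mem_iff_of_index_two (index_M1 X)).2
        ⟨fun h => absurd (inv_mem_iff.1 h) (fun h' => hgM (mem_subgroupOf.1 h')),
          fun h => absurd (mem_subgroupOf.1 h) hxM⟩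
    rw [show x = g * (g⁻¹ * x) by group]
    exact mul_mem ((hS g).2 hgd) ((hS _).2 (hdM _ (mem_subgroupOf.1 hgx)))
  have hQS : QG ≤ S := (QG_le_N0 D).trans ((N0_le_normalizer D).trans
    (normalizer_le X hMS ((hS _).2 hdμ) mA mB))
  have hdF : (⟨d, mem_centralizer_singleton_iff.2 hdz.eq⟩ : ↥(centralizer ({(z : W)} : Set W))) ∈
      centralizer (Cfsg.generalizedFittingSubgroup ↥(centralizer ({(z : W)} : Set W)) : Set _) := by
    refine mem_centralizer_iff.2 fun f hf => Subtype.ext ?_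
    have h1 : (f : W) ∈ (QG).map G₀.subtype := hFX ▸ mem_map_of_mem _ hf
    obtain ⟨y, hy, e⟩ := h1
    show (f : W) * d = d * f
    rw [← e]
    exact ((hS y).1 (hQS hy)).eq.symm
  obtain ⟨y, -, e⟩ : d ∈ (QG).map G₀.subtype :=
    hFX ▸ mem_map_of_mem _ (Comp.centralizer_Fstar_le hdF)
  exact hdG (e ▸ y.2)

end CfsgLib.FiLarge.Aut
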